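import Cfsg.Agent.Lib.Spor.TC.Steps
import Cfsg.Agent.Lib.Spor.HeldRecog.Enum.PG.Part0
import Cfsg.Agent.Lib.Spor.HeldRecog.Enum.PG.Part1
import Cfsg.Agent.Lib.Spor.HeldRecog.Enum.PG.Part2
import Cfsg.Agent.Lib.Spor.HeldRecog.Enum.PG.Part3
import Cfsg.Agent.Lib.Spor.HeldRecog.Enum.PG.Part4
import Cfsg.Agent.Lib.Spor.HeldRecog.Enum.PG.Part5
import Cfsg.Agent.Lib.Spor.HeldRecog.Enum.PG.Part6
import Cfsg.Agent.Lib.Spor.HeldRecog.Enum.PG.Part7
import Cfsg.Agent.Lib.Spor.HeldRecog.Enum.PG.Part8
import Cfsg.Agent.Lib.Spor.HeldRecog.Enum.PG.Part9
import Cfsg.Agent.Lib.Spor.HeldRecog.Enum.PG.Part10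
import Cfsg.Agent.Lib.Spor.HeldRecog.Enum.PG.Part11
import Cfsg.Agent.Lib.Spor.HeldRecog.Enum.PG.Part12
import Cfsg.Agent.Lib.Spor.HeldRecog.Enum.PG.Part13
import Cfsg.Agent.Lib.Spor.HeldRecog.Enum.PG.Part14
import Cfsg.Agent.Lib.Spor.HeldRecog.Enum.PG.Part15
import Cfsg.Agent.Lib.Spor.HeldRecog.Enum.PG.Part16
import Cfsg.Agent.Lib.Spor.HeldRecog.Enum.PG.Part17
import Cfsg.Agent.Lib.Spor.HeldRecog.Enum.PG.Part18

/-!
The assembled certificate.
-/

set_option autoImplicit false

namespace CfsgLib.Spor.HeldRecog.Enum.PG

open CfsgLib.Spor.TC

theorem steps_ok : cert.StepsOK 0 130113 :=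
  ((((((((((((((((((((((((((((((((((((((((((((steps0.append _ steps2900).append _ steps5800).append _ steps8700).append _ steps11600).append _ steps14500).append _ steps17400).append _ steps20300).append _ steps23200).append _ steps26100).append _ steps29000).append _ steps31900).append _ steps34800).append _ steps37700).append _ steps40600).append _ steps43500).append _ steps46400).append _ steps49300).append _ steps52200).append _ steps55100).append _ steps58000).append _ steps60900).append _ steps63800).append _ steps66700).append _ steps69600).append _ steps72500).append _ steps75400).append _ steps78300).append _ steps81200).append _ steps84100).append _ steps87000).append _ steps89900).append _ steps92800).append _ steps95700).append _ steps98600).append _ steps101500).append _ steps104400).append _ steps107300).append _ steps110200).append _ steps113100).append _ steps116000).append _ steps118900).append _ steps121800).append _ steps124700).append _ steps127600)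

theorem rows_ok : cert.RowsOK 130113 29155 0 29155 :=
  ((((((((((rows0.append _ rows2900).append _ rows5800).append _ rows8700).append _ rows11600).append _ rows14500).append _ rows17400).append _ rows20300).append _ rows23200).append _ rows26100).append _ rows29000)

theorem row_zero : cert.rowNode 0 = 0 := by decide +kernel

/-- The certificate, for the relators as powers of words. -/
noncomputable def cosetCert : CosetCert 7 relsP [0, 1, 2, 3, 5, 6] 29155 :=
  ⟨cert, 130113, steps_ok, rows_ok, row_zero, by decide, rfl, rfl, by decide +kernel⟩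

end CfsgLib.Spor.HeldRecog.Enum.PG
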